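import Groth.Agent.S5947
import Groth.Agent.Lib.OmegaLocal4.Compat
import Groth.Agent.Lib.PPGen.TildeHom
import Mathlib

/-!
# Derivations on affine schemes and global sections
-/

set_option autoImplicit false
set_option backward.isDefEq.respectTransparency false
set_option maxHeartbeats 1000000

universe u

open CategoryTheory AlgebraicGeometry Opposite TopologicalSpace

noncomputable section

namespace GrothLib.DerAff4

/-- Derivations on an affine scheme are determined by the global sections. -/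
theorem injective_app_top {X S : Scheme.{u}} [IsAffine X] (f : X ⟶ S) (F : X.Modules) :
    Function.Injective (fun D : OmegaSh.Der f F => D.app ⊤) := by
  intro D D' h
  refine PresheafOfModules.Derivation.ext (funext fun ⟨U⟩ => AddMonoidHom.ext fun x => ?_)
  show D.app U x = D'.app U x
  have hB := isBasis_basicOpen X
  have hcov : ∀ z : U, ∃ r : Γ(X, ⊤), z.1 ∈ X.basicOpen r ∧ X.basicOpen r ≤ U := by
    intro z
    obtain ⟨_, ⟨_, ⟨r, rfl⟩, rfl⟩, hz, hle⟩ := hB.exists_subset_of_mem_open z.2 U.2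
    exact ⟨r, hz, hle⟩
  choose r hr hrU using hcov
  refine TopCat.Sheaf.eq_of_locally_eq' ⟨F.presheaf, F.isSheaf⟩ (fun z : U => X.basicOpen (r z)) U
    (fun z => homOfLE (hrU z)) (fun z hz => Opens.mem_iSup.2 ⟨⟨z, hz⟩, hr ⟨z, hz⟩⟩) _ _ fun z => ?_
  refine (D.d_map (X := op U) (homOfLE (hrU z)).op x).symm.trans (Eq.trans ?_ (D'.d_map (X := op U) (homOfLE (hrU z)).op x))
  let W := X.basicOpen (r z)
  let x' : Γ(X, W) := X.presheaf.map (homOfLE (hrU z)).op x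
  show D.app W x' = D'.app W x'
  haveI := (isAffineOpen_top X).isLocalization_basicOpen (r z)
  obtain ⟨⟨a, s⟩, hs⟩ := IsLocalization.surj (Submonoid.powers (r z)) x'
  let ρ := X.presheaf.map (homOfLE (X.basicOpen_le (r z))).op
  have hD : ∀ y : Γ(X, ⊤), D.app W (ρ y) = D'.app W (ρ y) := fun y => by
    refine (D.d_map (X := op ⊤) (homOfLE (X.basicOpen_le (r z))).op y).trans ?_
    refine Eq.trans ?_ (D'.d_map (X := op ⊤) (homOfLE (X.basicOpen_le (r z))).op y).symm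
    exact congrArg (fun w : Γ(F, ⊤) => F.presheaf.map (homOfLE (X.basicOpen_le (r z))).op w)
      (DFunLike.congr_fun h y)
  have hs' : x' * ρ s.1 = ρ a := hs
  have hu : IsUnit (ρ s.1) := IsLocalization.map_units Γ(X, W) s
  have h1 : D.app W (x' * ρ s.1) = x' • D.app W (ρ s.1) + ρ s.1 • D.app W x' := D.d_mul (X := op W) _ _
  have h2 : D'.app W (x' * ρ s.1) = x' • D'.app W (ρ s.1) + ρ s.1 • D'.app W x' := D'.d_mul (X := op W) _ _
  rw [hs', hD] at h1
  rw [hs', h1, hD, add_right_inj] at h2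
  exact hu.smul_left_cancel.1 h2

variable {X S : Scheme.{u}} [IsAffine X] [IsAffine S] (f : X ⟶ S)

/-- A derivation of global sections extends to the sheaves. -/
theorem exists_der (F : X.Modules) (δ : Γ(X, ⊤) →+ Γ(F, ⊤))
    (hmul : ∀ a b : Γ(X, ⊤), δ (a * b) = a • δ b + b • δ a) (hbase : ∀ c : Γ(S, ⊤), δ (f.appTop c) = 0) :
    ∃ D : OmegaSh.Der f F, D.app ⊤ = δ := by
  let h : Spec Γ(X, ⊤) ⟶ X := X.isoSpec.inv
  let F' := (Scheme.Modules.pushforward X.isoSpec.hom).obj F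
  let LM : ModuleCat.{u} Γ(X, ⊤) := moduleSpecΓFunctor.obj F'
  let em : Γ(F, ⊤) ≃+ LM := AddEquiv.refl _
  have hsmul : ∀ (b : Γ(X, ⊤)) (m : Γ(F, ⊤)), em (b • m) = b • em m := by
    intro b m
    refine Eq.trans ?_ (PPGen.smul_top F' b m).symm
    show b • m = (X.isoSpec.hom.appTop ((Scheme.ΓSpecIso Γ(X, ⊤)).inv b) : Γ(X, ⊤)) • m
    refine congrArg (fun q : Γ(X, ⊤) => q • m) ?_
    have hk : (Scheme.ΓSpecIso Γ(X, ⊤)).inv ≫ X.isoSpec.hom.appTop = 𝟙 _ := by simp [Scheme.isoSpec]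
    exact (congr($hk b)).symm
  letI : Algebra Γ(S, ⊤) Γ(X, ⊤) := f.appTop.hom.toAlgebra
  letI : Module Γ(S, ⊤) LM := Module.compHom LM (algebraMap Γ(S, ⊤) Γ(X, ⊤))
  haveI : IsScalarTower Γ(S, ⊤) Γ(X, ⊤) LM := IsScalarTower.of_algebraMap_smul fun _ _ => rfl
  let δ' : Derivation Γ(S, ⊤) Γ(X, ⊤) LM := Derivation.mk'
    { toFun := fun a => em (δ a)
      map_add' := fun a b => by rw [map_add, map_add]
      map_smul' := fun c b => by
        show em (δ (f.appTop c * b)) = f.appTop c • em (δ b)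
        rw [hmul, hbase, smul_zero, add_zero, hsmul] }
    (fun a b => by
      show em (δ (a * b)) = a • em (δ b) + b • em (δ a)
      rw [hmul, map_add, hsmul, hsmul])
  obtain ⟨D₀, hD₀, -⟩ := (Groth.Agent.S5947.result Γ(S, ⊤) Γ(X, ⊤) LM).2 δ'
  obtain ⟨u, hu⟩ := PPGen.exists_hom_top (tilde LM) F' (PPGen.ofTopSect LM)
    (fun b m => (PPGen.ofTopSect_smul LM b m).trans (PPGen.smul_top F' b _))
  let D₁ : OmegaSh.Der (Spec.map f.appTop) F' := D₀.postcomp u.val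
  have hD₁ : ∀ t : Γ(X, ⊤), D₁.app ⊤ ((Scheme.ΓSpecIso Γ(X, ⊤)).inv t) = δ t := by
    intro t
    show u.app ⊤ (D₀.app ⊤ ((Scheme.ΓSpecIso Γ(X, ⊤)).inv t)) = δ t
    refine (congrArg (fun w => u.app ⊤ w) (hD₀ t)).trans ?_
    exact (hu _).trans (PPGen.ofTopSect_topSect LM (δ' t))
  let D₂ := OmegaLocal4.pushDer h S.isoSpec.inv (Scheme.isoSpec_inv_naturality f) D₁
  let e : (Scheme.Modules.pushforward h).obj F' ≅ F :=
    (Scheme.Modules.pushforwardComp X.isoSpec.hom h).app F ≪≫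
      (Scheme.Modules.pushforwardCongr X.isoSpec.hom_inv_id).app F ≪≫ (Scheme.Modules.pushforwardId X).app F
  refine ⟨D₂.postcomp e.hom.val, AddMonoidHom.ext fun t => ?_⟩
  show e.hom.app ⊤ (D₁.app (h ⁻¹ᵁ ⊤) (h.app ⊤ t)) = δ t
  have hk : h.appTop = (Scheme.ΓSpecIso Γ(X, ⊤)).inv := by
    rw [← cancel_mono X.isoSpec.hom.appTop, ← Scheme.Hom.comp_appTop, Iso.hom_inv_id]
    simp [Scheme.isoSpec]
  have ht : h.app ⊤ t = (Scheme.ΓSpecIso Γ(X, ⊤)).inv t := congr($hk t)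
  rw [ht]
  refine (congrArg (fun w => e.hom.app ⊤ w) (hD₁ t)).trans ?_
  show F.presheaf.map _ (δ t) = δ t
  exact (congrArg (fun i => F.presheaf.map i (δ t)) (Subsingleton.elim _ (𝟙 (op ⊤)))).trans
    (congr($(F.presheaf.map_id (op ⊤)) (δ t)))

theorem result (F : X.Modules) :
    Function.Injective (fun D : OmegaSh.Der f F => D.app ⊤) ∧
      ∀ δ : Γ(X, ⊤) →+ Γ(F, ⊤),
        ((∀ a b : Γ(X, ⊤), δ (a * b) = a • δ b + b • δ a) ∧ ∀ c : Γ(S, ⊤), δ (f.appTop c) = 0) ↔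
          ∃ D : OmegaSh.Der f F, D.app ⊤ = δ := by
  refine ⟨injective_app_top f F, fun δ => ⟨fun hδ => exists_der f F δ hδ.1 hδ.2, ?_⟩⟩
  rintro ⟨D, rfl⟩
  exact ⟨fun a b => D.d_mul (X := op ⊤) a b, fun c => D.d_app (X := op ⊤) c⟩

end GrothLib.DerAff4
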